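import Groth.Agent.QCoh.Qcqs
import Groth.Agent.QCoh.Support
import Groth.Agent.QCoh.Stalk
import Groth.Agent.QCoh.OpenSub
import Groth.Prelude.Def_FrameBundle
import Mathlib.RingTheory.Flat.TorsionFree
import Mathlib.RingTheory.DiscreteValuationRing.Basic

/-!
# Flat extensions of quotients over a principal ideal domain
-/

set_option backward.isDefEq.respectTransparency false
set_option backward.isDefEq.respectTransparency.types false
set_option linter.style.haveILetI false

universe u

open CategoryTheory CategoryTheory.Limits AlgebraicGeometry TopologicalSpace Opposite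

namespace Groth.Agent.DvrExt

/-- The open immersion of the generic point of a trait. -/
theorem isOpenImmersion_generic (A K : Type u) [CommRing A] [IsDomain A] [IsDiscreteValuationRing A] [Field K]
    [Algebra A K] [IsFractionRing A K] : IsOpenImmersion (Spec.map (CommRingCat.ofHom (algebraMap A K))) := by
  obtain ⟨ϖ, hϖ⟩ := IsDiscreteValuationRing.exists_irreducible A
  have : IsLocalization.Away ϖ K := by
    refine (IsLocalization.iff_of_le_of_exists_dvd (Submonoid.powers ϖ) (nonZeroDivisors A)
      (Submonoid.powers_le.2 (mem_nonZeroDivisors_of_ne_zero hϖ.ne_zero)) fun a ha => ?_).2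
      (inferInstanceAs (IsLocalization (nonZeroDivisors A) K))
    obtain ⟨n, hn⟩ := IsDiscreteValuationRing.associated_pow_irreducible (nonZeroDivisors.ne_zero ha) hϖ
    exact ⟨ϖ ^ n, ⟨n, rfl⟩, hn.dvd⟩
  exact IsOpenImmersion.of_isLocalization ϖ

variable {R : Type u} [CommRing R] [IsDomain R] [IsPrincipalIdealRing R]

/-- A module without sections killed by a non-zero constant is flat over a principal ideal domain. -/
theorem isFlatOver_of_smul_eq_zero {X : Scheme.{u}} (π : X ⟶ Spec (CommRingCat.of R)) (M : X.Modules)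
    (h : ∀ r : R, r ≠ 0 → ∀ (W : X.Opens) (s : Γ(M, W)),
      X.presheaf.map (homOfLE (le_top : W ≤ ⊤)).op (π.appTop ((Scheme.ΓSpecIso (CommRingCat.of R)).inv r)) • s = 0 →
        s = 0) :
    FlatMod.IsFlatOver π M := fun x => by
  letI : Algebra R ((Spec (CommRingCat.of R)).presheaf.stalk (π.base x)) :=
    StructureSheaf.stalkAlgebra R (π.base x)
  haveI : IsLocalization.AtPrime ((Spec (CommRingCat.of R)).presheaf.stalk (π.base x)) (π.base x).asIdeal :=
    StructureSheaf.IsLocalization.to_stalk R (π.base x)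
  show FlatMod.IsFlatOverAt π M x
  unfold FlatMod.IsFlatOverAt
  letI := FlatMod.moduleStalkOver π M x
  letI : Module R (M.presheaf.stalk x) :=
    Module.compHom _ (algebraMap R ((Spec (CommRingCat.of R)).presheaf.stalk (π.base x)))
  haveI : IsScalarTower R ((Spec (CommRingCat.of R)).presheaf.stalk (π.base x)) (M.presheaf.stalk x) :=
    IsScalarTower.of_algebraMap_smul fun _ _ => rfl
  rw [Module.flat_iff_of_isLocalization ((Spec (CommRingCat.of R)).presheaf.stalk (π.base x))
    (π.base x).asIdeal.primeCompl, Module.Flat.flat_iff_torsion_eq_bot_of_isBezout, eq_bot_iff]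
  intro m hm
  obtain ⟨⟨r, hr⟩, hrm⟩ := (Submodule.mem_torsion_iff m).1 hm
  obtain ⟨V, hV, s, rfl⟩ := M.presheaf.germ_exist m
  let a := (Scheme.ΓSpecIso (CommRingCat.of R)).inv r
  have e1 : π.stalkMap x (algebraMap R ((Spec (CommRingCat.of R)).presheaf.stalk (π.base x)) r) =
      X.presheaf.germ V x hV (X.presheaf.map (homOfLE (le_top : V ≤ ⊤)).op (π.appTop a)) := by
    rw [X.presheaf.germ_res_apply]
    exact Scheme.Hom.germ_stalkMap_apply π ⊤ x trivial a
  have e2 : M.presheaf.germ V x hV (X.presheaf.map (homOfLE (le_top : V ≤ ⊤)).op (π.appTop a) • s) = 0 := by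
    rw [QCoh.germ_smul' M hV, ← e1]
    exact hrm
  obtain ⟨W, hxW, i, i', hW⟩ := M.presheaf.germ_eq x hV hV _ 0 (e2.trans (map_zero _).symm)
  have hW' : X.presheaf.map i.op (X.presheaf.map (homOfLE (le_top : V ≤ ⊤)).op (π.appTop a)) •
      M.presheaf.map i.op s = 0 := by
    rw [← Scheme.Modules.map_smul]
    exact hW.trans (map_zero _)
  rw [← CommRingCat.comp_apply, ← X.presheaf.map_comp, ← op_comp] at hW'
  have h0 : M.presheaf.map i.op s = 0 := h r (nonZeroDivisors.ne_zero hr) W _ hW'
  rw [Submodule.mem_bot, ← M.presheaf.germ_res_apply i x hxW, h0, map_zero]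

/-- An extension of a quotient of a free module from the generic fibre, flat over the base. -/
theorem exists_flat_extension {X XK : Scheme.{u}} (π : X ⟶ Spec (CommRingCat.of R)) (j : XK ⟶ X)
    [IsOpenImmersion j] [QuasiCompact j] [QuasiSeparated j]
    (hunit : ∀ r : R, r ≠ 0 → IsUnit (j.appTop (π.appTop ((Scheme.ΓSpecIso (CommRingCat.of R)).inv r))))
    {P : X.Modules} (hP : Coh.IsCoh P) {F : XK.Modules} (hF : Coh.IsQCoh F)
    (q : (Scheme.Modules.pullback j).obj P ⟶ F) [Epi q] :
    ∃ (F' : X.Modules) (q' : P ⟶ F'), Coh.IsCoh F' ∧ Epi q' ∧ FlatMod.IsFlatOver π F' ∧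
      Nonempty ((Scheme.Modules.pullback j).obj F' ≅ F) := by
  let R' := Scheme.Modules.restrictFunctor j
  let adj := Scheme.Modules.restrictAdjunction j
  let η := Scheme.Modules.restrictFunctorIsoPullback j
  let φ : P ⟶ (Scheme.Modules.pushforward j).obj F := adj.homEquiv _ _ (η.hom.app P ≫ q)
  have hqi : Coh.IsQCoh (Limits.image φ) :=
    (QCoh.isQCoh_iff_iso (Abelian.imageIsoImage φ)).1
      (QCoh.isQCoh_kernel (QCoh.isQCoh_pushforward j hF) (QCoh.isQCoh_cokernel hP.1 (QCoh.isQCoh_pushforward j hF) φ) _)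
  refine ⟨Limits.image φ, factorThruImage φ, QCoh.isCoh_of_epi (factorThruImage φ) hP hqi,
    inferInstance, isFlatOver_of_smul_eq_zero π _ fun r hr W s hs => ?_, ?_⟩
  · let a := (Scheme.ΓSpecIso (CommRingCat.of R)).inv r
    have hu : IsUnit (j.app W (X.presheaf.map (homOfLE (le_top : W ≤ ⊤)).op (π.appTop a))) := by
      rw [← CommRingCat.comp_apply, j.naturality, CommRingCat.comp_apply]
      exact (hunit r hr).map _
    refine QCoh.app_injective (Limits.image.ι φ) W ?_
    rw [map_zero]
    have key := Scheme.Modules.Hom.app_smul (Limits.image.ι φ)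
      (X.presheaf.map (homOfLE (le_top : W ≤ ⊤)).op (π.appTop a)) s
    rw [hs, map_zero] at key
    let z : Γ(F, j ⁻¹ᵁ W) := (Limits.image.ι φ).app W s
    have key' : j.app W (X.presheaf.map (homOfLE (le_top : W ≤ ⊤)).op (π.appTop a)) • z = 0 := key.symm
    have hz : z = 0 := hu.smul_eq_zero.1 key'
    exact hz
  · have hp : R'.map φ ≫ adj.counit.app F = η.hom.app P ≫ q :=
      (adj.homEquiv_counit _ _ _).symm.trans (Equiv.symm_apply_apply _ _)
    haveI : IsIso (adj.counit.app F) := inferInstance
    haveI : Epi (η.hom.app P ≫ q) := epi_comp _ _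
    haveI : Epi (R'.map φ) := by
      rw [show R'.map φ = (η.hom.app P ≫ q) ≫ inv (adj.counit.app F) by rw [← hp, Category.assoc, IsIso.hom_inv_id, Category.comp_id]]
      exact epi_comp _ _
    haveI : Epi (R'.map (Limits.image.ι φ)) :=
      epi_of_epi_fac (f := R'.map (factorThruImage φ)) (h := R'.map φ) (by rw [← R'.map_comp, Limits.image.fac])
    haveI : Mono (R'.map (Limits.image.ι φ)) := QCoh.mono_restrict_map j _
    haveI : IsIso (R'.map (Limits.image.ι φ)) := isIso_of_mono_of_epi _
    exact ⟨η.symm.app _ ≪≫ asIso (R'.map (Limits.image.ι φ)) ≪≫ asIso (adj.counit.app F)⟩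

end Groth.Agent.DvrExt
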